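import Groth.Agent.H16Derived.RelTensor.LocFree
import Groth.Agent.H16Derived.BaseChange.FinitePC
import Groth.Agent.H16Derived.TorTest.PushProj
import Groth.Agent.H16Derived.ProjFormula.PTri
import Groth.Agent.H16Derived.Dual.PseudoCoh
import Groth.Agent.H16Derived.Dual.AssocNat3

/-!
# `Rf_*(E ⊗^L G)` is pseudo-coherent for a bounded above complex of flat modules with proper support
-/

set_option autoImplicit false
set_option linter.style.haveILetI false
set_option linter.unusedSectionVars false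
set_option backward.isDefEq.respectTransparency false

universe u

open CategoryTheory CategoryTheory.Limits AlgebraicGeometry CategoryTheory.Pretriangulated

attribute [local instance] HasDerivedCategory.standard

namespace Groth.Agent.H16Derived.PushTensorPC

open Groth.Agent.H16Derived.KFlat Groth.Agent.H16Derived.KFlat.Stalk
open Groth.Agent.H16Derived.ProjFormula (PTri ptri_of_isTriangulated ptri_TObj)

variable {X S : Scheme.{u}}

/-- `P ⊗^L -` commutes with shifts. -/
theorem nonempty_T_shift (P M : DCoh.D X) (n : ℤ) :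
    Nonempty (((Dual.T X).obj P).obj (M⟦n⟧) ≅ (((Dual.T X).obj P).obj M)⟦n⟧) := by
  obtain ⟨e₁⟩ := Dual.nonempty_TObj_o M n
  obtain ⟨e₂⟩ := Dual.nonempty_TObj_o (((Dual.T X).obj P).obj M) n
  exact ⟨((Dual.T X).obj P).mapIso e₁.symm ≪≫ (Dual.α P M (Dual.o X n)).symm ≪≫ e₂⟩

/-- The hypotheses on a complex. -/
structure Hyp (f : X ⟶ S) (G : CochainComplex X.Modules ℤ) : Prop where
  above : ∃ b : ℤ, ∀ i : ℤ, b < i → IsZero (G.X i)
  fp : ∀ i : ℤ, CohB1.IsFP (G.X i)
  flat : ∀ i : ℤ, FlatMod.IsFlatOver f (G.X i)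
  supp : ∀ i : ℤ, ClSub.IsProperOver f (CohB1.support (G.X i))

theorem Hyp.isQCohD {f : X ⟶ S} {G : CochainComplex X.Modules ℤ} (h : Hyp f G) :
    DCoh.IsQCohD (DCoh.toD X G) :=
  QCohD.AffineUnit.isQCohD_Q G fun i => H29Fitt.isQCoh_of_isFP _ (h.fp i)

variable (f : X ⟶ S) [LocallyOfFinitePresentation f] [QuasiCompact f] [QuasiSeparated f] [DCoh.HasRpush f]

/-- The test functor. -/
noncomputable abbrev Φ (P : DCoh.D X) : DCoh.D X ⥤ DCoh.D S := (Dual.T X).obj P ⋙ DCoh.Rpush f

theorem ptri_Φ (P : DCoh.D X) : PTri (Φ f P) := by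
  letI := rpushCommShift f
  haveI := rpush_isTriangulated f
  exact (ptri_TObj P).comp (ptri_of_isTriangulated _)

/-- Pseudo-coherence of the middle of an image triangle. -/
theorem pc_middle (P : DCoh.D X) {T : Triangle (DCoh.D X)} (hT : T ∈ distTriang (DCoh.D X)) (k : ℤ)
    (h₁ : DCoh.IsPseudoCoherentD k ((Φ f P).obj T.obj₁))
    (h₃ : DCoh.IsPseudoCoherentD k ((Φ f P).obj T.obj₃)) :
    DCoh.IsPseudoCoherentD k ((Φ f P).obj T.obj₂) := by
  obtain ⟨T', hT', e₁, e₂, e₃, -, -⟩ := ptri_Φ f P T hT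
  refine isPseudoCoherentD_of_iso e₂ ?_
  have hrot := inv_rot_of_distTriang _ hT'
  refine isPseudoCoherentD_obj₃ hrot ?_ (isPseudoCoherentD_of_iso e₁.symm h₁)
  show DCoh.IsPseudoCoherentD (k + 1) (T'.obj₃⟦(-1 : ℤ)⟧)
  exact isPseudoCoherentD_shift (isPseudoCoherentD_of_iso e₃.symm h₃) (-1) (k + 1) (by omega)

/-- One flat module. -/
theorem pc_single {P : DCoh.D X} (hP : DCoh.IsPerfect P) {M : X.Modules} (hM : CohB1.IsFP M)
    (hflat : FlatMod.IsFlatOver f M) (hsupp : ClSub.IsProperOver f (CohB1.support M)) (q k : ℤ) :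
    DCoh.IsPseudoCoherentD k ((Φ f P).obj ((DerivedCategory.singleFunctor X.Modules q).obj M)) := by
  letI := rpushCommShift f
  haveI := rpush_isTriangulated f
  haveI := hasLTensorMod M
  obtain ⟨e₁⟩ := nonempty_T_shift P (DCoh.inD X M) (-q)
  obtain ⟨e₂⟩ := ProperSupp.nonempty_ltensorMod_iso P M
  refine isPseudoCoherentD_of_iso ((DCoh.Rpush f).mapIso
    (((Dual.T X).obj P).mapIso
      (((DerivedCategory.singleFunctors X.Modules).shiftIso (-q) q 0 (by omega)).app M))) ?_
  refine isPseudoCoherentD_of_iso ((DCoh.Rpush f).mapIso e₁ ≪≫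
    ((DCoh.Rpush f).commShiftIso (-q)).app _).symm (isPseudoCoherentD_of_isPerfect ?_ k)
  exact isPerfect_shift (isPerfect_of_iso ((DCoh.Rpush f).mapIso e₂)
    (RelTensor.isPerfect_rpush_ltensorMod f hM hflat hsupp hP)) (-q)

variable [CompactSpace S] [QuasiSeparatedSpace S]

/-- Perfect objects. -/
theorem pc_of_perfect {G : CochainComplex X.Modules ℤ} (hG : Hyp f G) {P : DCoh.D X} (hP : DCoh.IsPerfect P)
    (k : ℤ) : DCoh.IsPseudoCoherentD k ((Φ f P).obj (DCoh.toD X G)) := by
  haveI : CompactSpace X := QuasiCompact.compactSpace_of_compactSpace f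
  haveI : QuasiSeparatedSpace X := quasiSeparatedSpace_of_quasiSeparated f
  obtain ⟨N, hN⟩ := QCohD.exists_bound f
  obtain ⟨bP, hbP⟩ := Thomason.exists_isLE_of_pc (isPseudoCoherentD_of_isPerfect hP k)
  haveI := hbP
  obtain ⟨b, hb⟩ := hG.above
  let c : ℤ := min (k - bP - N) b
  have hc₁ : c ≤ b := min_le_right _ _
  have hc₂ : c ≤ k - bP - N := min_le_left _ _
  let A := Brutal.geq G c
  let C := cokernel (Brutal.ι G c)
  have hC : ∀ i, Coh.IsQCoh (C.X i) := fun i => by
    rcases lt_or_ge i c with hi | hi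
    · haveI := Brutal.isIso_cokernel_π G c hi
      exact H29Fitt.isQCoh_of_isFP _ (isFP_of_iso (asIso ((cokernel.π (Brutal.ι G c)).f i)) (hG.fp i))
    · exact QCohD.isQCoh_isZero _ (Brutal.isZero_cokernel G c hi)
  haveI hCle : C.IsStrictlyLE (c - 1) :=
    (CochainComplex.isStrictlyLE_iff _ _).2 fun i hi => Brutal.isZero_cokernel G c (by omega)
  haveI := hasLTensorCx C
  haveI : (DCoh.toD X C).IsLE (c - 1) := by
    have : (DerivedCategory.Q.obj C).IsLE (c - 1) := inferInstance
    exact this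
  haveI := Thomason.isLE_ltensorCx C (c - 1) (C := P) bP
  have h₃ : DCoh.IsPseudoCoherentD k ((Φ f P).obj (DCoh.toD X C)) := by
    refine isPseudoCoherentD_of_iso ((DCoh.Rpush f).mapIso ((Dual.ltensorCxIsoT C).app P)).symm ?_
    haveI : ((DCoh.Rpush f).obj ((DCoh.LTensorCx C).obj P)).IsLE (k - 1) :=
      (DerivedCategory.isLE_iff _ _).2 fun i hi => QCohD.isZero_rpush_of_isLE f hN _
        (QCohD.isQCohD_ltensorCx C (QCohD.AffineUnit.isQCohD_Q C hC) (Dual.isQCohD_of_isPerfect hP))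
        (bP + (c - 1)) i (by omega)
    exact isPseudoCoherentD_of_isLE (k - 1) k (by omega)
  have h₁ : DCoh.IsPseudoCoherentD k ((Φ f P).obj (DCoh.toD X A)) := by
    refine QCohD.bounded_induction (B := X.Modules)
      (fun Z => DCoh.IsPseudoCoherentD k ((Φ f P).obj Z))
      (fun e h => isPseudoCoherentD_of_iso ((Φ f P).mapIso e) h)
      (fun T hT a₁ a₃ => pc_middle f P hT k a₁ a₃)
      (fun Z hZ => isPseudoCoherentD_of_isPerfect (Thomason.isPerfect_zero ?_) k)
      (b + 1 - c).toNat c A (fun q hq => Brutal.isZero_geq G c hq) (fun q hq => ?_) fun q => ?_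
    · letI := rpushCommShift f
      haveI := rpush_isTriangulated f
      exact (DCoh.Rpush f).map_isZero (((Dual.T X).obj P).map_isZero hZ)
    · haveI := Brutal.isIso_ι_f G c (q := q) (by omega)
      exact (hb q (by omega)).of_iso (asIso ((Brutal.ι G c).f q))
    · rcases lt_or_ge q c with hq | hq
      · refine isPseudoCoherentD_of_isPerfect (Thomason.isPerfect_zero ?_) k
        letI := rpushCommShift f
        haveI := rpush_isTriangulated f
        exact (DCoh.Rpush f).map_isZero (((Dual.T X).obj P).map_isZero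
          ((DerivedCategory.singleFunctor X.Modules q).map_isZero (Brutal.isZero_geq G c hq)))
      · haveI := Brutal.isIso_ι_f G c hq
        refine isPseudoCoherentD_of_iso ((Φ f P).mapIso ((DerivedCategory.singleFunctor X.Modules q).mapIso
          (asIso ((Brutal.ι G c).f q)).symm)) ?_
        exact pc_single f hP (hG.fp q) (hG.flat q) (hG.supp q) q k
  exact pc_middle f P (DerivedCategory.triangleOfSES_distinguished (Brutal.shortExact G c)) k h₁ h₃

/-- Over a quasi-compact quasi-separated base. -/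
theorem pc_qcqs {G : CochainComplex X.Modules ℤ} (hG : Hyp f G) {E : DCoh.D X}
    (hE : ∀ m : ℤ, DCoh.IsPseudoCoherentD m E) (m : ℤ) :
    DCoh.IsPseudoCoherentD m ((Φ f E).obj (DCoh.toD X G)) := by
  haveI : CompactSpace X := QuasiCompact.compactSpace_of_compactSpace f
  haveI : QuasiSeparatedSpace X := quasiSeparatedSpace_of_quasiSeparated f
  haveI := hasLTensorCx G
  obtain ⟨b, hb⟩ := hG.above
  haveI : G.IsStrictlyLE b := (CochainComplex.isStrictlyLE_iff _ _).2 fun i hi => hb i hi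
  haveI : (DCoh.toD X G).IsLE b := by
    have : (DerivedCategory.Q.obj G).IsLE b := inferInstance
    exact this
  refine isPseudoCoherentD_of_iso ((DCoh.Rpush f).mapIso ((Dual.ltensorCxIsoT G).app E)).symm ?_
  exact Thomason.isPseudoCoherentD_rpush_ltensor f G hG.isQCohD b
    (fun P hP k => isPseudoCoherentD_of_iso ((DCoh.Rpush f).mapIso ((Dual.ltensorCxIsoT G).app P))
      (pc_of_perfect f hG hP k)) hE (BaseChange.isQCohD_of_pc hE) m

omit [CompactSpace S] [QuasiSeparatedSpace S]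

/-- **The theorem.** -/
theorem pc {G : CochainComplex X.Modules ℤ} (hG : Hyp f G) {E : DCoh.D X}
    (hE : ∀ m : ℤ, DCoh.IsPseudoCoherentD m E) [DCoh.HasLTensorCx G] (m : ℤ) :
    DCoh.IsPseudoCoherentD m ((DCoh.Rpush f).obj ((DCoh.LTensorCx G).obj E)) := by
  refine isPseudoCoherentD_of_iso ((DCoh.Rpush f).mapIso ((Dual.ltensorCxIsoT G).app E)) ?_
  refine isPseudoCoherentD_of_rd fun s => ?_
  obtain ⟨_, ⟨V, hV : IsAffineOpen V, rfl⟩, hsV, -⟩ :=
    S.isBasis_affineOpens.exists_subset_of_mem_open (Set.mem_univ s) isOpen_univ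
  refine ⟨(V : S.Opens), hsV, ?_⟩
  haveI : IsAffine ((V : S.Opens) : Scheme.{u}) := hV
  let U := f ⁻¹ᵁ (V : S.Opens)
  haveI := QCohD.hasRpush (f ∣_ (V : S.Opens))
  have hsq : IsPullback U.ι (f ∣_ (V : S.Opens)) f (Scheme.Opens.ι V) :=
    (isPullback_morphismRestrict f (V : S.Opens)).flip
  let G' := ((Scheme.Modules.pullback U.ι).mapHomologicalComplex (ComplexShape.up ℤ)).obj G
  have hG' : Hyp (f ∣_ (V : S.Opens)) G' :=
    { above := hG.above.imp fun b hb i hi => (Scheme.Modules.pullback U.ι).map_isZero (hb i hi)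
      fp := fun i => H06EGA9.isFP_pullback _ (hG.fp i)
      flat := fun i => BaseChange.isFlatOver_pullback hsq (hG.flat i)
      supp := fun i => by
        show ClSub.IsProperOver _ (CohB1.support ((Scheme.Modules.pullback U.ι).obj (G.X i)))
        rw [LeadProper.support_pullback (G.X i) (H29Fitt.isQCoh_of_isFP _ (hG.fp i))
          (H17.ConsProp.isFT_of_isFP (hG.fp i)) U.ι]
        exact H15Site.Shriek.isProperOver_baseChange hsq (hG.supp i) }
  obtain ⟨e⟩ := nonempty_restrictD_rpush_iso f (V : S.Opens)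
  obtain ⟨eT⟩ := TorTest.nonempty_rd_T U.ι E (DCoh.toD X G)
  let eG : (rd U.ι).obj (DCoh.toD X G) ≅ DCoh.toD (U : Scheme.{u}) G' :=
    (rdQ U.ι).app G ≪≫ DerivedCategory.Q.mapIso
      ((NatIso.mapHomologicalComplex (Scheme.Modules.restrictFunctorIsoPullback U.ι) (ComplexShape.up ℤ)).app G)
  exact isPseudoCoherentD_of_iso
    (e.app _ ≪≫ (DCoh.Rpush (f ∣_ (V : S.Opens))).mapIso
      (eT ≪≫ ((Dual.T (U : Scheme.{u})).obj _).mapIso eG)).symm
    (pc_qcqs (f ∣_ (V : S.Opens)) hG' (fun k => isPseudoCoherentD_rd U.ι (hE k)) m)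

end Groth.Agent.H16Derived.PushTensorPC
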